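import Mathlib
import Groth.Prelude
import Groth.Agent.Lib.Helper8.CIMor.Pt
import Groth.Agent.Lib.Helper8.CI.SyntFieldSch
import Groth.Agent.Lib.Helper8.CI.CILocal2

/-!
# Complete intersection local rings of fibres and base change
-/

set_option autoImplicit false
set_option linter.style.haveILetI false

universe u

open CategoryTheory CategoryTheory.Limits AlgebraicGeometry

attribute [local instance] HasDerivedCategory.standard

namespace Groth.Agent.H8.CIMor

open Groth.Agent.H8.SyntField Groth.Agent.H8.CILocal Groth.Agent.H8.KosLoc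

section field

variable {k : Type u} [Field k] {Z : Scheme.{u}} (p : Z ⟶ Spec (CommRingCat.of k))
  [LocallyOfFiniteType p]

theorem isCIOver_stalk_iff_isSyntomicAt (z : Z) :
    @Synt.IsCIOver k _ (Z.presheaf.stalk z) _ (stalkRho p z).toAlgebra _ ↔
      Synt.IsSyntomicAt p z := by
  obtain ⟨U, hU, hzU, -⟩ :=
    exists_isAffineOpen_mem_and_subset (X := Z) (x := z) (U := ⊤) trivial
  constructor
  · intro h
    obtain ⟨g, hzg, hgci⟩ := (isCIOver_stalk_iff p hU z hzU).mp h
    have h1 := isGlobalCI_basicOpen p hU g hgci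
    refine (isSyntomicAt_iff p z).mpr ⟨⟨Z.basicOpen g, hU.basicOpen g⟩, hzg, ?_⟩
    letI := (rho p (Z.basicOpen g)).toAlgebra
    exact isLCIOver_of_isGlobalCI _ (finiteType_rho p (hU.basicOpen g)) h1
  · intro h
    obtain ⟨U', hz', hL⟩ := (isSyntomicAt_iff p z).mp h
    letI := (rho p U'.1).toAlgebra
    obtain ⟨g, hg, hgci⟩ := hL.2 (U'.2.primeIdealOf ⟨z, hz'⟩)
    exact (isCIOver_stalk_iff p U'.2 z hz').mpr
      ⟨g, (notMem_primeIdealOf_iff U'.2 z hz' g).mp hg, hgci⟩

omit [LocallyOfFiniteType p] in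
theorem isSyntomicAt_iff_mem_lciLocus (z : Z) : Synt.IsSyntomicAt p z ↔ z ∈ lciLocus p := by
  have hflat : Flat p := flat_of_field k p
  constructor
  · rintro ⟨U, V, e, hz, hs⟩
    letI := (p.appLE V.1 U.1 e).hom.toAlgebra
    exact ⟨U.1, V.1, U.2, V.2, e, hz,
      ((Groth.Agent.H8.Synt.isSyntomic_iff Γ(Spec (CommRingCat.of k), V.1) Γ(Z, U.1)).mp hs).2⟩
  · rintro ⟨U, V, hU, hV, e, hz, hL⟩
    refine ⟨⟨U, hU⟩, ⟨V, hV⟩, e, hz, ?_⟩
    letI := (p.appLE V U e).hom.toAlgebra
    exact (Groth.Agent.H8.Synt.isSyntomic_iff _ _).mpr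
      ⟨HasRingHomProperty.appLE (P := @Flat) p hflat ⟨V, hV⟩ ⟨U, hU⟩ e, hL⟩

theorem isCIOver_stalk_iff_mem_lciLocus (z : Z) :
    @Synt.IsCIOver k _ (Z.presheaf.stalk z) _ (stalkRho p z).toAlgebra _ ↔ z ∈ lciLocus p :=
  (isCIOver_stalk_iff_isSyntomicAt p z).trans (isSyntomicAt_iff_mem_lciLocus p z)

end field

section fibres

variable {X S X' S' : Scheme.{u}} (f : X ⟶ S)

theorem fiber_point_congr (x : X) (s : S) (hs : s = f x) (z : f.fiber s)
    (hz : f.fiberι s z = x) :
    z ∈ lciLocus (f.fiberToSpecResidueField s) ↔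
      f.asFiber x ∈ lciLocus (f.fiberToSpecResidueField (f x)) := by
  subst hs
  have h1 : z = f.asFiber x :=
    (f.fiberι (f x)).isEmbedding.injective (by rw [hz, f.fiberι_asFiber])
  rw [h1]

variable [LocallyOfFiniteType f]

theorem mem_lciLocus_fiber_baseChange (g : S' ⟶ S) (g' : X' ⟶ X) (f' : X' ⟶ S')
    (hsq : IsPullback g' f' f g) (x' : X') :
    f'.asFiber x' ∈ lciLocus (f'.fiberToSpecResidueField (f' x')) ↔
      f.asFiber (g' x') ∈ lciLocus (f.fiberToSpecResidueField (f (g' x'))) := by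
  have hP := isPullback_fiberToSpecResidueField_of_isPullback hsq (f' x')
  haveI : LocallyOfFiniteType (f.fiberToSpecResidueField (g (f' x'))) :=
    MorphismProperty.pullback_snd (P := @LocallyOfFiniteType) _ _ inferInstance
  haveI : Flat (f.fiberToSpecResidueField (g (f' x'))) :=
    flat_of_field (S.residueField (g (f' x'))) _
  haveI : LocallyOfFinitePresentation (f.fiberToSpecResidueField (g (f' x'))) :=
    Groth.Agent.H1.EtNhd.lfp_of_lft_of_noetherian _
  have hY : IsPullback (Spec.map (g.residueFieldMap (f' x'))) (𝟙 _) (𝟙 _)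
      (Spec.map (g.residueFieldMap (f' x'))) := IsPullback.of_vert_isIso ⟨by simp⟩
  have hX : IsPullback
      (pullback.map _ _ _ _ g' (Spec.map (g.residueFieldMap (f' x'))) g hsq.w.symm (by simp))
      (f'.fiberToSpecResidueField (f' x') ≫ 𝟙 _)
      (f.fiberToSpecResidueField (g (f' x')) ≫ 𝟙 _)
      (Spec.map (g.residueFieldMap (f' x'))) := by
    rw [Category.comp_id, Category.comp_id]
    exact hP
  have hbc := lciLocus_baseChange (f.fiberToSpecResidueField (g (f' x'))) (𝟙 _)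
    (Spec.map (g.residueFieldMap (f' x'))) (Spec.map (g.residueFieldMap (f' x'))) (𝟙 _) hY
    (pullback.map _ _ _ _ g' (Spec.map (g.residueFieldMap (f' x'))) g hsq.w.symm (by simp))
    (f'.fiberToSpecResidueField (f' x')) hX hP.w
  refine (Set.ext_iff.mp hbc (f'.asFiber x')).trans ?_
  rw [Set.mem_preimage]
  refine fiber_point_congr f (g' x') (g (f' x')) ?_ _ ?_
  · rw [← Scheme.Hom.comp_apply, ← Scheme.Hom.comp_apply, hsq.w]
  · have h1 : pullback.map _ _ _ _ g' (Spec.map (g.residueFieldMap (f' x'))) g hsq.w.symm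
        (by simp) ≫ f.fiberι (g (f' x')) = f'.fiberι (f' x') ≫ g' := pullback.lift_fst _ _ _
    have h2 := congrArg (fun φ : f'.fiber (f' x') ⟶ X => φ (f'.asFiber x')) h1
    have h3 : (f'.fiberι (f' x') ≫ g') (f'.asFiber x') = g' x' := by
      rw [Scheme.Hom.comp_apply, f'.fiberι_asFiber]
    exact h2.trans h3

end fibres

end Groth.Agent.H8.CIMor
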